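import Groth.Agent.ValEtale7.Core
import Mathlib

/-!
Local rings of étale algebras over valuation rings are valuation rings with the same value group.
-/

namespace Groth.Agent.ValEtale7

universe u

open Polynomial

/-- `W` is a valuation ring extension of `A` with the same value group. -/
structure SameValues (A W : Type u) [CommRing A] [CommRing W] [Algebra A W] : Prop where
  isDomain : IsDomain W
  dvd_total : ∀ a b : W, a ∣ b ∨ b ∣ a
  inj : Function.Injective (algebraMap A W)
  isLocalHom : IsLocalHom (algebraMap A W)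
  exists_eq : ∀ b : W, b ≠ 0 → ∃ (a : A) (u : Wˣ), b = u * algebraMap A W a

theorem SameValues.of_algEquiv {A W W' : Type u} [CommRing A] [CommRing W] [CommRing W'] [Algebra A W] [Algebra A W']
    (h : SameValues A W) (e : W ≃ₐ[A] W') : SameValues A W' where
  isDomain := by
    have := h.isDomain
    exact Function.Injective.isDomain (e.symm : W' →+* W) e.symm.injective
  dvd_total a b := (h.dvd_total (e.symm a) (e.symm b)).imp
    (fun h => by simpa using map_dvd e h) (fun h => by simpa using map_dvd e h)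
  inj := fun a b hab => h.inj (e.injective (by simpa using hab))
  isLocalHom := ⟨fun a ha => h.isLocalHom.map_nonunit a (by
    have := ha.map e.symm
    simpa using this)⟩
  exists_eq b hb := by
    obtain ⟨a, u, hu⟩ := h.exists_eq (e.symm b) (by simpa using hb)
    exact ⟨a, Units.map e.toAlgHom.toRingHom.toMonoidHom u, by
      simpa [Units.coe_map] using congrArg e hu⟩

theorem SameValues.valuationRing {A W : Type u} [CommRing A] [CommRing W] [Algebra A W] (h : SameValues A W)
    [IsDomain W] : ValuationRing W := by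
  refine ValuationRing.iff_dvd_total.mpr ⟨h.dvd_total⟩

variable {A : Type u} [CommRing A] [IsDomain A] [ValuationRing A]

theorem sameValues_of_standard {S : Type u} [CommRing S] [Algebra A S] [Algebra.IsStandardEtale A S]
    (q : Ideal S) [q.IsPrime] (hq : q.comap (algebraMap A S) = IsLocalRing.maximalIdeal A) :
    SameValues A (Localization.AtPrime q) := by
  classical
  obtain ⟨E⟩ := Algebra.IsStandardEtale.nonempty_standardEtalePresentation (R := A) (S := S)
  let K := FractionRing A
  have : Algebra.Etale A S := inferInstance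
  have : IsIntegrallyClosed A := inferInstance
  -- a prime below `q` over `0`
  have : Module.Flat A S := inferInstance
  haveI : q.LiesOver (IsLocalRing.maximalIdeal A) := ⟨hq.symm⟩
  obtain ⟨P, hPq, hP, hPA⟩ := Ideal.exists_ideal_le_liesOver_of_le (p := (⊥ : Ideal A)) (q := IsLocalRing.maximalIdeal A) q bot_le
  let L := FractionRing (S ⧸ P)
  have hinjA : Function.Injective ((algebraMap (S ⧸ P) L).comp (algebraMap A (S ⧸ P))) := by
    refine (IsFractionRing.injective (S ⧸ P) L).comp ?_
    show Function.Injective ((Ideal.Quotient.mk P).comp (algebraMap A S))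
    rw [RingHom.injective_iff_ker_eq_bot, ← RingHom.comap_ker, Ideal.mk_ker]
    exact hPA.over.symm
  let algL : Algebra K L := (IsFractionRing.lift (A := A) hinjA).toAlgebra
  haveI : IsScalarTower A K L := IsScalarTower.of_algebraMap_eq fun a => by
    rw [IsScalarTower.algebraMap_apply A (S ⧸ P) L]
    exact (IsFractionRing.lift_algebraMap hinjA a).symm
  let π : S →ₐ[A] L := (IsScalarTower.toAlgHom A (S ⧸ P) L).comp (Ideal.Quotient.mkₐ A P)
  let θL : L := π E.x
  have hML := E.hasMap.map π
  have hintL : IsIntegral K θL := by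
    refine ⟨E.f.map (algebraMap A K), E.monic_f.map _, ?_⟩
    rw [eval₂_map, ← IsScalarTower.algebraMap_eq]
    exact hML.1
  let m := minpoly K θL
  have hmf : m ∣ E.f.map (algebraMap A K) := minpoly.dvd K θL (by rw [aeval_map_algebraMap]; exact hML.1)
  have hmsep : m.Separable := by
    refine (separable_iff_derivative_ne_zero (minpoly.irreducible hintL)).mpr fun h0 => ?_
    obtain ⟨h, hh⟩ := hmf
    have := hML.isUnit_derivative_f.ne_zero
    apply this
    rw [← aeval_map_algebraMap K, ← derivative_map, hh, derivative_mul, h0, zero_mul, zero_add, map_mul,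
      minpoly.aeval, zero_mul]
  let N := m.SplittingField
  haveI : FiniteDimensional K N := inferInstance
  haveI : IsGalois K N := IsGalois.of_separable_splitting_field hmsep
  obtain ⟨θ, hθ⟩ : ∃ θ : N, aeval θ m = 0 := by
    have hsp := SplittingField.splits m
    obtain ⟨θ, hθ⟩ := Splits.exists_eval_eq_zero hsp (by
      rw [degree_map]; exact (minpoly.degree_pos hintL).ne')
    exact ⟨θ, by rwa [← eval_map_algebraMap]⟩
  haveI : IsScalarTower A K N := inferInstance
  have hiff : ∀ p : A[X], aeval θ p = 0 ↔ aeval θL p = 0 := fun p => by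
    rw [← aeval_map_algebraMap K θ, ← aeval_map_algebraMap K θL, ← minpoly.dvd_iff, ← minpoly.dvd_iff,
      ← minpoly.eq_of_irreducible_of_monic (minpoly.irreducible hintL) hθ (minpoly.monic hintL)]
  have hMN : E.P.HasMap θ :=
    ⟨(hiff _).mpr hML.1, isUnit_iff_ne_zero.mpr fun h => hML.2.ne_zero ((hiff _).mp h)⟩
  let φ : S →ₐ[A] N := (E.P.lift θ hMN).comp E.equivRing.toAlgHom
  have hφx : φ E.x = θ := by
    show E.P.lift θ hMN (E.equivRing E.x) = θ
    rw [E.equivRing_x, StandardEtalePair.lift_X]
  have hrep : ∀ s : S, ∃ (p : A[X]) (n : ℕ), s * aeval E.x E.g ^ n = aeval E.x p :=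
    E.exists_mul_aeval_x_g_pow_eq_aeval_x
  have hker : ∀ s, φ s = 0 → s ∈ P := fun s hs => by
    obtain ⟨p, n, hp⟩ := hrep s
    have h1 := congrArg φ hp
    rw [map_mul, hs, zero_mul, ← aeval_algHom_apply, hφx] at h1
    have h2 := congrArg π hp
    rw [map_mul, ← aeval_algHom_apply π E.x p, (hiff p).mp h1.symm, map_pow, ← aeval_algHom_apply] at h2
    have h3 : π s = 0 := (mul_eq_zero.mp h2).resolve_right (pow_ne_zero _ hML.2.ne_zero)
    exact Ideal.Quotient.eq_zero_iff_mem.mp (IsFractionRing.injective (S ⧸ P) L (h3.trans (map_zero _).symm))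
  -- the valuation
  let R₀ : Subring N := φ.toRingHom.range
  let q₀ : Ideal R₀ := q.map φ.toRingHom.rangeRestrict
  have hq₀ : ∀ s, φ.toRingHom.rangeRestrict s ∈ q₀ ↔ s ∈ q := fun s => by
    refine ⟨fun h => ?_, fun h => Ideal.mem_map_of_mem _ h⟩
    obtain ⟨t, ht, e⟩ := (Ideal.mem_map_iff_of_surjective _ φ.toRingHom.rangeRestrict_surjective).mp h
    have h1 : φ (s - t) = 0 := by
      rw [map_sub, sub_eq_zero]
      exact (congrArg Subtype.val e).symm
    simpa using add_mem (hPq (hker _ h1)) ht
  haveI : q₀.IsPrime := Ideal.map_isPrime_of_surjective φ.toRingHom.rangeRestrict_surjective fun s hs =>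
    hPq (hker s (congrArg Subtype.val (RingHom.mem_ker.mp hs)))
  obtain ⟨V, hV⟩ := (LocalSubring.ofPrime R₀ q₀).exists_le_valuationSubring
  have hmemV : ∀ s, φ s ∈ V := fun s => hV.1 (LocalSubring.le_ofPrime R₀ q₀ ⟨s, rfl⟩)
  have hle : ∀ s, V.valuation (φ s) ≤ 1 := fun s => (V.valuation_le_one_iff _).mpr (hmemV s)
  have hvq : ∀ s, V.valuation (φ s) = 1 ↔ s ∉ q := fun s => by
    let O := LocalSubring.ofPrime R₀ q₀
    letI : Algebra R₀ O.toSubring := (Subring.inclusion (LocalSubring.le_ofPrime R₀ q₀)).toAlgebra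
    haveI : IsLocalization.AtPrime O.toSubring q₀ := inferInstance
    have h1 : IsUnit (algebraMap R₀ O.toSubring (φ.toRingHom.rangeRestrict s)) ↔ s ∉ q := by
      rw [IsLocalization.AtPrime.isUnit_to_map_iff O.toSubring q₀]
      exact (hq₀ s).not
    rw [← h1]
    constructor
    · intro h
      exact hV.2.map_nonunit (algebraMap R₀ O.toSubring (φ.toRingHom.rangeRestrict s))
        ((V.valuation_eq_one_iff ⟨_, hmemV s⟩).mpr h)
    · intro h
      exact (V.valuation_eq_one_iff ⟨_, hmemV s⟩).mp (h.map (Subring.inclusion hV.1))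
  have hAV : ∀ a : A, V.valuation (algebraMap A N a) ≤ 1 := fun a => by
    rw [← φ.commutes]; exact hle _
  have hAone : ∀ a : A, V.valuation (algebraMap A N a) = 1 ↔ IsUnit a := fun a => by
    rw [← φ.commutes, hvq, ← Ideal.mem_comap, hq, IsLocalRing.mem_maximalIdeal, mem_nonunits_iff, not_not]
  have hKA : ∀ c : K, V.valuation (algebraMap K N c) ≤ 1 → ∃ a : A, algebraMap A K a = c := fun c hc => by
    rcases (ValuationRing.isInteger_or_isInteger (R := A) c) with h | h
    · exact h
    · obtain ⟨a, ha⟩ := h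
      by_cases hc0 : c = 0
      · exact ⟨0, by rw [map_zero, hc0]⟩
      by_cases hu : IsUnit a
      · obtain ⟨b, hb⟩ := hu.exists_right_inv
        refine ⟨b, inv_injective ?_⟩
        rw [← ha]
        refine inv_eq_of_mul_eq_one_left ?_
        rw [← map_mul, hb, map_one]
      · exfalso
        have h1 : V.valuation (algebraMap A N a) < 1 := lt_of_le_of_ne (hAV a) fun h => hu ((hAone a).mp h)
        have h2 : V.valuation (algebraMap A N a) * V.valuation (algebraMap K N c) = 1 := by
          rw [← map_mul, IsScalarTower.algebraMap_apply A K N, ha, ← map_mul, inv_mul_cancel₀ hc0, map_one, map_one]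
        exact absurd h2 (ne_of_lt ((mul_le_of_le_one_right' hc).trans_lt h1))
  -- θ
  have hθ1 : V.valuation θ ≤ 1 := hφx ▸ hle E.x
  let f := E.f.map (algebraMap A K)
  have hf : ∀ i, V.valuation (algebraMap K N (f.coeff i)) ≤ 1 := fun i => by
    rw [coeff_map, ← IsScalarTower.algebraMap_apply]; exact hAV _
  have hf0 : aeval θ f = 0 := by rw [aeval_map_algebraMap]; exact hMN.1
  have hfd : V.valuation (aeval θ f.derivative) = 1 := by
    rw [derivative_map, aeval_map_algebraMap, ← hφx, aeval_algHom_apply, hvq]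
    exact fun h => ‹q.IsPrime›.ne_top (q.eq_top_of_isUnit_mem h E.hasMap.isUnit_derivative_f)
  let W := Localization.AtPrime q
  let ψ : W →ₐ[A] N := IsLocalization.liftAlgHom (M := q.primeCompl) (f := φ) fun s => by
    rw [isUnit_iff_ne_zero]
    intro h
    have := (hvq s).mpr s.2
    rw [h, map_zero] at this
    exact zero_ne_one this
  have hψ : ∀ (s : S), ψ (algebraMap S W s) = φ s := fun s => IsLocalization.lift_eq _ _
  have hψmk : ∀ (s : S) (t : q.primeCompl), ψ (IsLocalization.mk' W s t) * φ t = φ s := fun s t => by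
    rw [← hψ, ← hψ, ← map_mul, IsLocalization.mk'_spec]
  have hψle : ∀ w, V.valuation (ψ w) ≤ 1 := fun w => by
    obtain ⟨s, t, rfl⟩ := IsLocalization.exists_mk'_eq q.primeCompl w
    have := congrArg V.valuation (hψmk s t)
    rw [map_mul, (hvq t).mpr t.2, mul_one] at this
    rw [this]
    exact hle s
  let F₀ : Subalgebra K N := Algebra.adjoin K {θ}
  have hintN : IsIntegral A θ := ⟨E.f, E.monic_f, hMN.1⟩
  have hinv : ∀ z ∈ F₀, z⁻¹ ∈ F₀ := fun z hz =>
    F₀.inv_mem_of_algebraic (x := ⟨z, hz⟩) (Algebra.IsAlgebraic.isAlgebraic z)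
  have haev : ∀ p : K[X], aeval θ p ∈ F₀ := fun p => aeval_mem_adjoin_singleton K θ
  have hφF : ∀ s, φ s ∈ F₀ := fun s => by
    obtain ⟨p, n, hp⟩ := hrep s
    have h1 := congrArg φ hp
    rw [map_mul, map_pow, ← aeval_algHom_apply, ← aeval_algHom_apply, hφx] at h1
    rw [eq_div_of_mul_eq (pow_ne_zero _ hMN.2.ne_zero) h1, div_eq_mul_inv]
    refine mul_mem ?_ (hinv _ (pow_mem ?_ _))
    all_goals rw [← aeval_map_algebraMap K]; exact haev _
  have hψF : ∀ w, ψ w ∈ F₀ := fun w => by
    obtain ⟨s, t, rfl⟩ := IsLocalization.exists_mk'_eq q.primeCompl w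
    rw [eq_div_of_mul_eq (fun h => zero_ne_one (by rw [← (hvq t).mpr t.2, h, map_zero])) (hψmk s t), div_eq_mul_inv]
    exact mul_mem (hφF s) (hinv _ (hφF _))
  have hinj : Function.Injective ψ := by
    rw [injective_iff_map_eq_zero]
    intro w hw
    obtain ⟨s, t, rfl⟩ := IsLocalization.exists_mk'_eq q.primeCompl w
    have h0 : φ s = 0 := by rw [← hψmk s t, hw, zero_mul]
    obtain ⟨p, n, hp⟩ := hrep s
    have h1 := congrArg φ hp
    rw [map_mul, h0, zero_mul, ← aeval_algHom_apply, hφx] at h1
    haveI : FaithfulSMul A N := (faithfulSMul_iff_algebraMap_injective A N).mpr fun a b hab =>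
      IsFractionRing.injective A K ((algebraMap K N).injective hab)
    obtain ⟨r, hr⟩ := minpoly.isIntegrallyClosed_dvd hintN h1.symm
    obtain ⟨h, hh⟩ := minpoly.isIntegrallyClosed_dvd hintN hMN.1
    set f₀ := minpoly A θ
    have hu : aeval E.x h ∉ q := by
      rw [← hvq, ← aeval_algHom_apply, hφx]
      have h2 : V.valuation (aeval θ f₀.derivative) * V.valuation (aeval θ h) = 1 := by
        rw [← map_mul, ← hfd, derivative_map, aeval_map_algebraMap, hh, derivative_mul]
        simp only [map_add, map_mul, show aeval θ f₀ = 0 from minpoly.aeval A θ, zero_mul, add_zero]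
      have ha : ∀ p : A[X], V.valuation (aeval θ p) ≤ 1 := fun p => by
        rw [← hφx, aeval_algHom_apply]; exact hle _
      refine le_antisymm (ha h) ?_
      rw [← h2]
      exact mul_le_of_le_one_left' (ha _)
    rw [IsLocalization.mk'_eq_zero_iff]
    have hgq : aeval E.x E.g ∉ q := fun h => ‹q.IsPrime›.ne_top (q.eq_top_of_isUnit_mem h E.hasMap.2)
    refine ⟨⟨aeval E.x E.g ^ n * aeval E.x h, fun hm => (‹q.IsPrime›.mem_or_mem hm).elim
      (fun hg => hgq (‹q.IsPrime›.mem_of_pow_mem n hg)) hu⟩, ?_⟩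
    show aeval E.x E.g ^ n * aeval E.x h * s = 0
    calc aeval E.x E.g ^ n * aeval E.x h * s = (s * aeval E.x E.g ^ n) * aeval E.x h := by ring
      _ = aeval E.x r * aeval E.x E.f := by rw [hp, hr, hh, map_mul, map_mul]; ring
      _ = 0 := by rw [E.hasMap.1, mul_zero]
  have hrange : ∀ z ∈ F₀, V.valuation z ≤ 1 → ∃ w, ψ w = z := by
    intro z hz hzle
    obtain ⟨g, rfl⟩ := Algebra.adjoin_mem_exists_aeval K θ hz
    obtain ⟨P₁, Q₁, hP₁, hQ₁, hQone, he⟩ := exists_fraction hθ1 (E.monic_f.map _) hf hf0 hfd g hzle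
    obtain ⟨PA, hPA'⟩ : P₁ ∈ Polynomial.lifts (algebraMap A K) :=
      (lifts_iff_coeff_lifts P₁).mpr fun i => hKA _ (hP₁ i)
    obtain ⟨QA, hQA⟩ : Q₁ ∈ Polynomial.lifts (algebraMap A K) :=
      (lifts_iff_coeff_lifts Q₁).mpr fun i => hKA _ (hQ₁ i)
    rw [coe_mapRingHom] at hPA' hQA
    have hev : ∀ p : A[X], aeval θ p = φ (aeval E.x p) := fun p => by rw [← aeval_algHom_apply, hφx]
    rw [← hPA', ← hQA, aeval_map_algebraMap, aeval_map_algebraMap, hev, hev] at he
    rw [← hQA, aeval_map_algebraMap, hev, hvq] at hQone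
    refine ⟨IsLocalization.mk' W (aeval E.x PA) (⟨_, hQone⟩ : q.primeCompl), ?_⟩
    have hne : φ (aeval E.x QA) ≠ 0 := fun h => zero_ne_one (by rw [← (hvq _).mpr hQone, h, map_zero])
    exact mul_right_cancel₀ hne ((hψmk _ _).trans he.symm)
  refine ⟨hinj.isDomain ψ.toRingHom, ?_, ?_, ?_, ?_⟩
  · intro a b
    by_cases hb : ψ b = 0
    · exact Or.inl ⟨0, hinj (by rw [hb, mul_zero, map_zero])⟩
    by_cases ha : ψ a = 0
    · exact Or.inr ⟨0, hinj (by rw [ha, mul_zero, map_zero])⟩
    rcases le_total (V.valuation (ψ b)) (V.valuation (ψ a)) with h | h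
    · left
      obtain ⟨c, hc⟩ := hrange (ψ b / ψ a) (by rw [div_eq_mul_inv]; exact mul_mem (hψF b) (hinv _ (hψF a)))
        (by rw [map_div₀]; exact div_le_one_of_le₀ h zero_le)
      exact ⟨c, hinj (by rw [map_mul, hc, mul_div_cancel₀ _ ha])⟩
    · right
      obtain ⟨c, hc⟩ := hrange (ψ a / ψ b) (by rw [div_eq_mul_inv]; exact mul_mem (hψF a) (hinv _ (hψF b)))
        (by rw [map_div₀]; exact div_le_one_of_le₀ h zero_le)
      exact ⟨c, hinj (by rw [map_mul, hc, mul_div_cancel₀ _ hb])⟩
  · intro a b hab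
    have := congrArg ψ hab
    rw [ψ.commutes, ψ.commutes] at this
    exact IsFractionRing.injective A K ((algebraMap K N).injective this)
  · refine ⟨fun a ha => (hAone a).mp ?_⟩
    obtain ⟨b, hb⟩ := ha.exists_right_inv
    have h1 := congrArg (fun w => V.valuation (ψ w)) hb
    simp only [map_mul, map_one] at h1
    rw [ψ.commutes a] at h1
    refine le_antisymm (hAV a) ?_
    rw [← h1]
    exact mul_le_of_le_one_right' (hψle b)
  · intro b hb
    have hb' : ψ b ≠ 0 := fun h => hb (hinj (h.trans (map_zero _).symm))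
    obtain ⟨g, hg⟩ := Algebra.adjoin_mem_exists_aeval K θ (hψF b)
    obtain ⟨c, hc⟩ := value_group hθ1 (E.monic_f.map _) hf hf0 hfd g (by rw [hg]; exact hb')
    rw [hg] at hc
    obtain ⟨a, rfl⟩ := hKA c (hc.trans_le (hψle b))
    rw [← IsScalarTower.algebraMap_apply] at hc
    have hd : algebraMap A N a ≠ 0 := fun h => by
      rw [h, map_zero] at hc
      exact hb' (V.valuation.zero_iff.mp hc.symm)
    have hdF : algebraMap A N a ∈ F₀ := by
      rw [IsScalarTower.algebraMap_apply A K N]; exact Subalgebra.algebraMap_mem _ _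
    obtain ⟨u, hu⟩ := hrange (ψ b / algebraMap A N a) (by rw [div_eq_mul_inv]; exact mul_mem (hψF b) (hinv _ hdF))
      (by rw [map_div₀, hc, div_self]; exact (V.valuation.ne_zero_iff).mpr hb')
    obtain ⟨u', hu'⟩ := hrange (algebraMap A N a / ψ b) (by rw [div_eq_mul_inv]; exact mul_mem hdF (hinv _ (hψF b)))
      (by rw [map_div₀, hc, div_self]; exact (V.valuation.ne_zero_iff).mpr hb')
    have h1 : u * u' = 1 := hinj (by rw [map_mul, hu, hu', map_one, div_mul_div_cancel₀ hd, div_self hb'])
    refine ⟨a, ⟨u, u', h1, (mul_comm _ _).trans h1⟩, hinj ?_⟩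
    rw [map_mul, hu, ψ.commutes, div_mul_cancel₀ _ hd]

theorem sameValues_localization {B : Type u} [CommRing B] [Algebra A B] [Algebra.Etale A B] (m : Ideal B) [m.IsPrime]
    (hm : m.comap (algebraMap A B) = IsLocalRing.maximalIdeal A) :
    SameValues A (Localization.AtPrime m) := by
  haveI : Algebra.IsEtaleAt A m := inferInstance
  obtain ⟨s, hs, hstd⟩ := Algebra.IsEtaleAt.exists_isStandardEtale (R := A) m
  let S := Localization.Away s
  let q : Ideal S := m.map (algebraMap B S)
  have hdisj : Disjoint (Submonoid.powers s : Set B) (m : Set B) := Set.disjoint_left.mpr fun x ⟨n, hn⟩ hx =>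
    hs (‹m.IsPrime›.mem_of_pow_mem n (show s ^ n ∈ m by rw [show s ^ n = x from hn]; exact hx))
  haveI hqp : q.IsPrime := IsLocalization.isPrime_of_isPrime_disjoint (Submonoid.powers s) S m ‹_› hdisj
  have hqc : q.comap (algebraMap B S) = m := IsLocalization.under_map_of_isPrime_disjoint (Submonoid.powers s) S ‹_› hdisj
  have h := sameValues_of_standard (A := A) q (by
    rw [IsScalarTower.algebraMap_eq A B S, ← Ideal.comap_comap, hqc, hm])
  haveI : IsLocalization.AtPrime (Localization.AtPrime q) (q.comap (algebraMap B S)) :=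
    IsLocalization.isLocalization_isLocalization_atPrime_isLocalization (Submonoid.powers s) _ q
  haveI : IsLocalization m.primeCompl (Localization.AtPrime q) := by
    have : (q.comap (algebraMap B S)).primeCompl = m.primeCompl := by ext x; exact (SetLike.ext_iff.mp hqc x).not
    rw [← this]; infer_instance
  exact h.of_algEquiv ((IsLocalization.algEquiv m.primeCompl (Localization.AtPrime q) (Localization.AtPrime m)).restrictScalars A)

end Groth.Agent.ValEtale7
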