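import Groth.Agent.ValEtale7.Local
import Groth.Agent.Hensel.HenselizationDescent

/-!
The (strict) henselization of a valuation ring is a valuation ring with the same value group.
-/

namespace Groth.Agent.ValEtale7

open IsLocalRing Groth.Agent.Hensel

universe u

variable {A : Type u} [CommRing A] [IsDomain A] [ValuationRing A] {L : Type u} [Field L]
  [Algebra A L] [Algebra (ResidueField A) L] [IsScalarTower A (ResidueField A) L]

theorem sameValues_stage (N : Nbhd A L) : SameValues A N.Stage := by
  let m : Ideal N.B := RingHom.ker N.toK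
  haveI : m.IsPrime := RingHom.ker_isPrime _
  have hm : m.comap (algebraMap A N.B) = maximalIdeal A := by
    ext a
    simp [m, RingHom.mem_ker, algebraMap_eq_zero_iff_mem]
  have hS : N.S = m.primeCompl := by
    ext b
    simp [Nbhd.S, m, Ideal.primeCompl, IsUnit.mem_submonoid_iff, RingHom.mem_ker]
  haveI : IsLocalization.AtPrime N.Stage m := by
    show IsLocalization m.primeCompl N.Stage
    rw [← hS]; infer_instance
  exact (sameValues_localization m hm).of_algEquiv
    ((IsLocalization.algEquiv m.primeCompl (Localization.AtPrime m) N.Stage).restrictScalars A)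

theorem sameValues_henz : SameValues A (Henz A L) := by
  have hinj : Function.Injective (algebraMap A (Henz A L)) :=
    FaithfulSMul.algebraMap_injective A (Henz A L)
  have hex : ∀ z : Henz A L, z ≠ 0 → ∃ (a : A) (u : (Henz A L)ˣ), z = u * algebraMap A _ a := by
    intro z hz
    obtain ⟨N, x, rfl⟩ := Henz.exists_of z
    obtain ⟨a, u, hu⟩ := (sameValues_stage N).exists_eq x (fun h => hz (by rw [h, map_zero]))
    exact ⟨a, Units.map (Henz.of N).toRingHom.toMonoidHom u, by rw [hu, map_mul, AlgHom.commutes]; rfl⟩
  refine ⟨@NoZeroDivisors.to_isDomain _ _ inferInstance ⟨?_⟩, ?_, hinj, inferInstance, hex⟩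
  · intro x y h
    by_contra! hxy
    obtain ⟨a, u, rfl⟩ := hex x hxy.1
    obtain ⟨b, v, rfl⟩ := hex y hxy.2
    rw [mul_mul_mul_comm, ← map_mul, ← Units.val_mul, Units.mul_right_eq_zero, map_eq_zero_iff _ hinj,
      mul_eq_zero] at h
    rcases h with h | h
    · exact hxy.1 (by simp [h])
    · exact hxy.2 (by simp [h])
  · intro x y
    rcases eq_or_ne x 0 with rfl | hx
    · exact .inr (dvd_zero _)
    rcases eq_or_ne y 0 with rfl | hy
    · exact .inl (dvd_zero _)
    obtain ⟨a, u, rfl⟩ := hex x hx
    obtain ⟨b, v, rfl⟩ := hex y hy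
    exact (ValuationRing.dvd_total a b).imp (fun h => by simpa using map_dvd (algebraMap A (Henz A L)) h)
      (fun h => by simpa using map_dvd (algebraMap A (Henz A L)) h)

theorem sameValues_of_isHenzLike {S : Type u} [CommRing S] [Algebra A S] (h : IsHenzLike A S) :
    SameValues A S := by
  obtain ⟨L, _, _, _, _, ⟨e⟩⟩ := h
  exact sameValues_henz.of_algEquiv e

end Groth.Agent.ValEtale7
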