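import Mathlib

/-!
Unramified extensions of valued fields have the same value group (elementary proof via a Galois closure):
for `θ` a root in `V` of a monic polynomial over the base valuation ring with derivative a unit of `V`,
every element of `K(θ)` has the valuation of an element of `K`, and `V ∩ K(θ)` is generated by
fractions of polynomials in `θ` with integral coefficients.
-/

namespace Groth.Agent.ValEtale7

universe u

open Polynomial

variable {K N : Type u} [Field K] [Field N] [Algebra K N] (V : ValuationSubring N)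

/-- Elements all of whose conjugates lie in `V`. -/
def Intl (x : N) : Prop := ∀ σ : N ≃ₐ[K] N, V.valuation (σ x) ≤ 1

variable {V}

theorem Intl.le {x : N} (h : Intl (K := K) V x) : V.valuation x ≤ 1 := h AlgEquiv.refl

theorem Intl.add {x y : N} (hx : Intl (K := K) V x) (hy : Intl (K := K) V y) : Intl (K := K) V (x + y) :=
  fun σ => by rw [map_add]; exact (V.valuation.map_add _ _).trans (max_le (hx σ) (hy σ))

theorem Intl.mul {x y : N} (hx : Intl (K := K) V x) (hy : Intl (K := K) V y) : Intl (K := K) V (x * y) :=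
  fun σ => by rw [map_mul, map_mul]; exact mul_le_one' (hx σ) (hy σ)

theorem Intl.conj {x : N} (hx : Intl (K := K) V x) (τ : N ≃ₐ[K] N) : Intl (K := K) V (τ x) :=
  fun σ => hx (σ * τ)

theorem aeval_conj (σ : N ≃ₐ[K] N) (x : N) (p : K[X]) : aeval (σ x) p = σ (aeval x p) :=
  Polynomial.aeval_algHom_apply σ.toAlgHom x p

theorem intl_algebraMap {a : K} (ha : V.valuation (algebraMap K N a) ≤ 1) :
    Intl (K := K) V (algebraMap K N a) := fun σ => by rw [σ.commutes]; exact ha

theorem valuation_eval_le {P : N[X]} {x : N} (hP : ∀ i, V.valuation (P.coeff i) ≤ 1)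
    (hx : V.valuation x ≤ 1) : V.valuation (P.eval x) ≤ 1 := by
  rw [Polynomial.eval_eq_sum_range]
  refine V.valuation.map_sum_le fun i _ => ?_
  rw [map_mul, map_pow]
  exact mul_le_one' (hP i) (pow_le_one₀ zero_le hx)

/-- A monic polynomial with coefficients in `V` vanishing on a finite subset `O ∋ t` of `V` with unit
derivative at `t`: the differences `t - t'` are units. -/
theorem diff_eq_one {f : N[X]} (hm : f.Monic) (hf : ∀ i, V.valuation (f.coeff i) ≤ 1) (O : Finset N)
    (hO : ∀ t ∈ O, f.IsRoot t ∧ V.valuation t ≤ 1) [DecidableEq N] {t : N} (ht : t ∈ O)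
    (hd : V.valuation (f.derivative.eval t) = 1) :
    V.valuation (∏ t' ∈ O.erase t, (t - t')) = 1 := by
  have hdvd : ∏ t' ∈ O, (X - C t') ∣ f :=
    Finset.prod_dvd_of_coprime (fun a _ b _ hab => Polynomial.isCoprime_X_sub_C_of_isUnit_sub
      (sub_ne_zero.mpr hab).isUnit) fun t' ht' => dvd_iff_isRoot.mpr (hO t' ht').1
  obtain ⟨h, hh⟩ := hdvd
  have hmP : (∏ t' ∈ O, (X - C t')).Monic := monic_prod_of_monic _ _ fun _ _ => monic_X_sub_C _
  -- the quotient has coefficients in `V`
  let ι := V.subtype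
  obtain ⟨fV, hfV⟩ : f ∈ Polynomial.lifts ι := (lifts_iff_coeff_lifts f).mpr fun i =>
    ⟨⟨f.coeff i, (V.valuation_le_one_iff _).mp (hf i)⟩, rfl⟩
  obtain ⟨PV, hPV, -, hPVm⟩ := lifts_and_degree_eq_and_monic (f := ι)
    (show ∏ t' ∈ O, (X - C t') ∈ Polynomial.lifts ι from Subsemiring.prod_mem _ fun t' ht' =>
      ⟨X - C ⟨t', (V.valuation_le_one_iff _).mp (hO t' ht').2⟩, by simp [ι]⟩) hmP
  have hq : h = (fV /ₘ PV).map ι := by
    rw [Polynomial.map_divByMonic _ hPVm, hPV,
      show fV.map ι = f from hfV, hh, mul_divByMonic_cancel_left _ hmP]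
  have hh1 : V.valuation (h.eval t) ≤ 1 := valuation_eval_le (fun i => by
    rw [hq, coeff_map]; exact V.valuation_le_one _) (hO t ht).2
  have hΔ : V.valuation (∏ t' ∈ O.erase t, (t - t')) ≤ 1 := by
    rw [map_prod]
    exact Finset.prod_le_one' fun t' ht' => (V.valuation.map_sub _ _).trans
      (max_le (hO t ht).2 (hO t' (Finset.mem_of_mem_erase ht')).2)
  have he : f.derivative.eval t = (∏ t' ∈ O.erase t, (t - t')) * h.eval t := by
    rw [hh, ← Finset.mul_prod_erase O _ ht, mul_assoc, derivative_mul, derivative_X_sub_C, one_mul,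
      eval_add, eval_mul, eval_prod]
    simp
  rw [he, map_mul] at hd
  refine le_antisymm hΔ ?_
  calc (1 : _) = V.valuation (∏ t' ∈ O.erase t, (t - t')) * V.valuation (h.eval t) := hd.symm
    _ ≤ _ := mul_le_of_le_one_right' hh1

variable [FiniteDimensional K N]

/-- The decomposition group. -/
def dec (V : ValuationSubring N) : Submonoid (N ≃ₐ[K] N) where
  carrier := {σ | ∀ x y : N, V.valuation x ≤ V.valuation y → V.valuation (σ x) ≤ V.valuation (σ y)}
  one_mem' := fun _ _ h => h
  mul_mem' := fun ha hb x y h => ha _ _ (hb x y h)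

theorem dec_inv {σ : N ≃ₐ[K] N} (h : σ ∈ dec (K := K) V) : σ⁻¹ ∈ dec (K := K) V := by
  rw [inv_eq_of_mul_eq_one_right (b := σ ^ (orderOf σ - 1))
    (by rw [← pow_succ', Nat.sub_add_cancel (orderOf_pos σ), pow_orderOf_eq_one])]
  exact Submonoid.pow_mem _ h _

theorem dec_value {σ : N ≃ₐ[K] N} (h : σ ∈ dec (K := K) V) (x : N) : V.valuation (σ x) = V.valuation x := by
  have hn : (σ ^ orderOf σ) x = x := by rw [pow_orderOf_eq_one]; rfl
  have hpos := orderOf_pos σ
  have hstep : ∀ i, (σ ^ (i + 1)) x = σ ((σ ^ i) x) := fun i => by rw [pow_succ']; rfl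
  rcases le_total (V.valuation x) (V.valuation (σ x)) with hle | hle
  · refine le_antisymm ?_ hle
    have key : ∀ i, V.valuation ((σ ^ i) x) ≤ V.valuation ((σ ^ (i + 1)) x) := fun i => by
      induction i with
      | zero => simpa using hle
      | succ i ih => rw [hstep i, hstep (i + 1)]; exact h _ _ ih
    calc V.valuation (σ x) = V.valuation ((σ ^ 1) x) := by rw [pow_one]
      _ ≤ V.valuation ((σ ^ orderOf σ) x) := monotone_nat_of_le_succ (f := fun i => V.valuation ((σ ^ i) x)) key hpos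
      _ = V.valuation x := by rw [hn]
  · refine le_antisymm hle ?_
    have key : ∀ i, V.valuation ((σ ^ (i + 1)) x) ≤ V.valuation ((σ ^ i) x) := fun i => by
      induction i with
      | zero => simpa using hle
      | succ i ih => rw [hstep i, hstep (i + 1)]; exact h _ _ ih
    calc V.valuation x = V.valuation ((σ ^ orderOf σ) x) := by rw [hn]
      _ ≤ V.valuation ((σ ^ 1) x) := antitone_nat_of_succ_le (f := fun i => V.valuation ((σ ^ i) x)) key hpos
      _ = V.valuation (σ x) := by rw [pow_one]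

/-- Elements of `V` are fractions of conjugate-integral elements, with unit denominator. -/
theorem exists_div {x : N} (hx : V.valuation x ≤ 1) :
    ∃ P Q : K[X], Intl (K := K) V (aeval x P) ∧ Intl (K := K) V (aeval x Q) ∧
      V.valuation (aeval x Q) = 1 ∧ x * aeval x Q = aeval x P := by
  classical
  set p := minpoly K x
  have hint : IsIntegral K x := .of_finite K x
  obtain ⟨i₁, hi₁, hmax⟩ := p.support.exists_max_image (fun i => V.valuation (algebraMap K N (p.coeff i)))
    (Polynomial.support_nonempty.mpr (minpoly.ne_zero hint))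
  have hne : p.coeff i₁ ≠ 0 := Polynomial.mem_support_iff.mp hi₁
  set q := C (p.coeff i₁)⁻¹ * p
  have hq0 : aeval x q = 0 := by simp [q, p, minpoly.aeval]
  have hqle : ∀ i, V.valuation (algebraMap K N (q.coeff i)) ≤ 1 := fun i => by
    rw [coeff_C_mul, map_mul, map_inv₀, map_mul, map_inv₀]
    by_cases h : i ∈ p.support
    · exact inv_mul_le_one_of_le₀ (hmax i h) zero_le
    · simp [Polynomial.notMem_support_iff.mp h]
  have hq1 : V.valuation (algebraMap K N (q.coeff i₁)) = 1 := by
    rw [coeff_C_mul, inv_mul_cancel₀ hne, map_one, map_one]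
  let c : ℕ → K[X] := fun j => Polynomial.divX^[j] q
  have hcoeff : ∀ j i, (c j).coeff i = q.coeff (i + j) := by
    intro j
    induction j with
    | zero => intro i; rfl
    | succ j ih =>
      intro i
      show (Polynomial.divX^[j + 1] q).coeff i = _
      rw [Function.iterate_succ_apply', coeff_divX, ih]
      congr 1; omega
  have hrec : ∀ j y, aeval y (c j) = y * aeval y (c (j + 1)) + algebraMap K N (q.coeff j) := fun j (y : N) => by
    conv_lhs => rw [← X_mul_divX_add (c j)]
    show aeval y (X * (c j).divX + C ((c j).coeff 0)) = y * aeval y (Polynomial.divX^[j + 1] q) + _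
    rw [Function.iterate_succ_apply', map_add, map_mul, aeval_X, aeval_C, hcoeff, zero_add]
  have hroot : ∀ σ : N ≃ₐ[K] N, aeval (σ x) q = 0 := fun σ => by
    rw [aeval_conj, hq0, map_zero] 
  have hc : ∀ j, Intl (K := K) V (aeval x (c j)) := by
    intro j σ
    rw [← aeval_conj]
    by_cases hy : V.valuation (σ x) ≤ 1
    · rw [← eval_map_algebraMap]
      exact valuation_eval_le (fun i => by rw [coeff_map, hcoeff]; exact hqle _) hy
    · induction j with
      | zero => rw [show c 0 = q from rfl, hroot, map_zero]; exact zero_le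
      | succ j ih =>
        have h := hrec j (σ x)
        have hle : V.valuation (σ x * aeval (σ x) (c (j + 1))) ≤ 1 := by
          rw [show σ x * aeval (σ x) (c (j + 1)) = aeval (σ x) (c j) - algebraMap K N (q.coeff j) by
            rw [h]; ring]
          exact (V.valuation.map_sub _ _).trans (max_le ih (hqle j))
        rw [map_mul] at hle
        exact (le_mul_of_one_le_left' (not_le.mp hy).le).trans hle
  have hxc : ∀ j, Intl (K := K) V (x * aeval x (c (j + 1))) := fun j σ => by
    rw [show x * aeval x (c (j + 1)) = aeval x (c j) - algebraMap K N (q.coeff j) by rw [hrec j x]; ring,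
      map_sub, σ.commutes]
    exact (V.valuation.map_sub _ _).trans (max_le (hc j σ) (hqle j))
  obtain ⟨j, hj⟩ : ∃ j, V.valuation (aeval x (c (j + 1))) = 1 := by
    by_contra! hcon
    have hlt : ∀ j, V.valuation (x * aeval x (c (j + 1))) < 1 := fun j => by
      rw [map_mul]
      exact (mul_le_of_le_one_left' hx).trans_lt (lt_of_le_of_ne (hc (j + 1)).le (hcon j))
    have hlt' : ∀ j, V.valuation (aeval x (c j)) < 1 := fun j => by
      cases j with
      | zero => rw [show c 0 = q from rfl, hq0, map_zero]; exact zero_lt_one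
      | succ j => exact lt_of_le_of_ne (hc (j + 1)).le (hcon j)
    have h := V.valuation.map_sub (aeval x (c i₁)) (x * aeval x (c (i₁ + 1)))
    rw [hrec i₁ x, add_sub_cancel_left, hq1, ← hrec i₁ x] at h
    exact absurd h (not_le.mpr (max_lt (hlt' i₁) (hlt i₁)))
  exact ⟨X * c (j + 1), c (j + 1), by rw [map_mul, aeval_X]; exact hxc j, hc (j + 1), hj,
    by rw [map_mul, aeval_X]⟩

theorem exists_separating {σ : N ≃ₐ[K] N} (hσ : σ ∉ dec (K := K) V) :
    ∃ c : N, Intl (K := K) V c ∧ V.valuation c = 1 ∧ V.valuation (σ c) < 1 := by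
  obtain ⟨x, y, hxy, hσxy⟩ : ∃ x y : N, V.valuation x ≤ V.valuation y ∧ V.valuation (σ y) < V.valuation (σ x) := by
    by_contra! h
    exact hσ h
  have hy0 : y ≠ 0 := by
    rintro rfl
    rw [map_zero] at hxy
    rw [V.valuation.zero_iff.mp (le_antisymm hxy zero_le)] at hσxy
    exact lt_irrefl _ hσxy
  have hu : V.valuation (x / y) ≤ 1 := by
    rw [map_div₀]; exact div_le_one_of_le₀ hxy zero_le
  obtain ⟨P, Q, hP, hQ, hQ1, he⟩ := exists_div (K := K) hu
  refine ⟨_, hQ, hQ1, lt_of_le_of_ne (hQ σ) fun h => ?_⟩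
  have h' := congrArg V.valuation (congrArg σ he)
  rw [map_mul, map_mul, h, mul_one, map_div₀, map_div₀] at h'
  have h1 : V.valuation (σ x) / V.valuation (σ y) ≤ 1 := h'.trans_le (hP σ)
  have hσy : 0 < V.valuation (σ y) := (V.valuation.pos_iff).mpr (by simpa using hy0)
  exact absurd ((div_le_one₀ hσy).mp h1) (not_le.mpr hσxy)

theorem exists_decomposition_unit [IsGalois K N] :
    ∃ y : N, (∀ τ ∈ dec (K := K) V, τ y = y) ∧ V.valuation y = 1 ∧
      ∀ σ ∉ dec (K := K) V, V.valuation (σ y) < 1 := by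
  classical
  choose c hc1 hc2 hc3 using fun σ : {σ : N ≃ₐ[K] N // σ ∉ dec (K := K) V} => exists_separating σ.2
  let y₀ : N := ∏ σ, c σ
  have hy₀ : Intl (K := K) V y₀ := fun τ => by
    rw [map_prod, map_prod]; exact Finset.prod_le_one' fun σ _ => hc1 σ τ
  let D := {τ : N ≃ₐ[K] N // τ ∈ dec (K := K) V}
  refine ⟨∏ τ : D, τ.1 y₀, fun σ hσ => ?_, ?_, fun σ hσ => ?_⟩
  · rw [map_prod]
    exact Fintype.prod_bijective (fun τ : D => (⟨σ * τ.1, mul_mem hσ τ.2⟩ : D))
      ⟨fun a b h => Subtype.ext (mul_left_cancel (congrArg Subtype.val h)),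
        fun b => ⟨⟨σ⁻¹ * b.1, mul_mem (dec_inv hσ) b.2⟩, Subtype.ext (mul_inv_cancel_left _ _)⟩⟩ _ _ fun τ => rfl
  · rw [map_prod]
    refine Finset.prod_eq_one fun τ _ => ?_
    rw [dec_value τ.2, map_prod]
    exact Finset.prod_eq_one fun σ _ => hc2 σ
  · rw [map_prod, map_prod, ← Finset.mul_prod_erase _ _ (Finset.mem_univ (⟨1, one_mem _⟩ : D))]
    refine (mul_le_of_le_one_right' (Finset.prod_le_one' fun τ _ => (hy₀.conj τ.1) σ)).trans_lt ?_
    show V.valuation (σ y₀) < 1
    rw [map_prod, map_prod, ← Finset.mul_prod_erase _ _ (Finset.mem_univ (⟨σ, hσ⟩ : {σ : N ≃ₐ[K] N // σ ∉ dec (K := K) V}))]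
    exact (mul_le_of_le_one_right' (Finset.prod_le_one' fun τ _ => hc1 τ σ)).trans_lt (hc3 ⟨σ, hσ⟩)

/-- An element fixed by the decomposition group has the valuation of an element of `K`. -/
theorem value_fixed [IsGalois K N] {c : N} (hc0 : c ≠ 0) (hfix : ∀ τ ∈ dec (K := K) V, τ c = c) :
    ∃ a : K, V.valuation (algebraMap K N a) = V.valuation c := by
  classical
  obtain ⟨y, hyfix, hy1, hylt⟩ := exists_decomposition_unit (K := K) (V := V)
  have hy0 : y ≠ 0 := fun h => by simp [h] at hy1
  -- choose the exponent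
  have hbad : ∀ σ : N ≃ₐ[K] N, Set.Subsingleton {k : ℕ | σ ∉ dec (K := K) V ∧
      V.valuation (σ c) * V.valuation (σ y) ^ k = V.valuation c} := by
    rintro σ a ⟨hσ, ha⟩ b ⟨-, hb⟩
    have hpos : 0 < V.valuation (σ y) := V.valuation.pos_iff.mpr (by simpa using hy0)
    have hσc : V.valuation (σ c) ≠ 0 := by simpa using hc0
    exact (pow_right_strictAnti₀ hpos (hylt σ hσ)).injective (mul_left_cancel₀ hσc (ha.trans hb.symm))
  obtain ⟨k, hk⟩ := (Set.finite_iUnion fun σ : N ≃ₐ[K] N => (hbad σ).finite).exists_notMem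
  simp only [Set.mem_iUnion, Set.mem_setOf_eq, not_exists, not_and] at hk
  let z := c * y ^ k
  have hz : V.valuation z = V.valuation c := by simp [z, hy1]
  have hzfix : ∀ τ ∈ dec (K := K) V, τ z = z := fun τ hτ => by simp [z, hfix τ hτ, hyfix τ hτ]
  have hsep : ∀ σ ∉ dec (K := K) V, V.valuation (σ z) ≠ V.valuation z := fun σ hσ => by
    rw [hz]; simpa [z] using hk σ hσ
  have hz0 : z ≠ 0 := mul_ne_zero hc0 (pow_ne_zero _ hy0)
  -- the conjugates of `z`
  let O : Finset N := Finset.univ.image fun σ : N ≃ₐ[K] N => σ z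
  have hzO : z ∈ O := Finset.mem_image.mpr ⟨1, Finset.mem_univ _, rfl⟩
  have huniq : ∀ r ∈ O, V.valuation r = V.valuation z → r = z := fun r hr h => by
    obtain ⟨σ, -, rfl⟩ := Finset.mem_image.mp hr
    by_contra hne
    exact hsep σ (fun hD => hne (hzfix σ hD)) h
  let F : N[X] := ∏ r ∈ O, (X - C r)
  have hFfix : ∀ σ : N ≃ₐ[K] N, F.map σ.toRingEquiv.toRingHom = F := fun σ => by
    simp only [F, Polynomial.map_prod, Polynomial.map_sub, map_X, map_C]
    refine Finset.prod_bij (fun r _ => σ r) (fun r hr => ?_) (fun _ _ _ _ h => σ.injective h) (fun r hr => ?_) (fun _ _ => rfl)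
    · obtain ⟨τ, -, rfl⟩ := Finset.mem_image.mp hr
      exact Finset.mem_image.mpr ⟨σ * τ, Finset.mem_univ _, rfl⟩
    · obtain ⟨τ, -, rfl⟩ := Finset.mem_image.mp hr
      exact ⟨(σ⁻¹ * τ) z, Finset.mem_image.mpr ⟨_, Finset.mem_univ _, rfl⟩, by
        show (σ * (σ⁻¹ * τ)) z = τ z
        rw [mul_inv_cancel_left]⟩
  have hFK : ∀ i, ∃ a : K, algebraMap K N a = F.coeff i := fun i =>
    IntermediateField.mem_bot.mp ((IsGalois.mem_bot_iff_fixed _).mpr fun σ => by
      conv_rhs => rw [← hFfix σ]
      rw [coeff_map]; rfl)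
  -- normalised factors
  let ι := V.subtype
  let res := IsLocalRing.residue V
  have hfac : ∀ r ∈ O, ∃ (e : N) (p : V[X]), e ≠ 0 ∧ (X - C r).comp (C z * X) = C e * p.map ι ∧
      p.map res = if V.valuation r < V.valuation z then X
        else if r = z then X - C 1 else C (-1) := by
    intro r hr
    by_cases h : V.valuation r ≤ V.valuation z
    · have hmem : r / z ∈ V := (V.valuation_le_one_iff _).mp (by
        rw [map_div₀]; exact div_le_one_of_le₀ h zero_le)
      refine ⟨z, X - C ⟨r / z, hmem⟩, hz0, ?_, ?_⟩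
      · rw [sub_comp, X_comp, C_comp, Polynomial.map_sub, map_X, map_C, mul_sub, ← C_mul]
        congr 2
        show r = z * (r / z)
        field_simp
      · rw [Polynomial.map_sub, map_X, map_C]
        by_cases h' : r = z
        · subst h'
          rw [if_neg (lt_irrefl _), if_pos rfl, show (⟨z / z, hmem⟩ : V) = 1 from Subtype.ext (div_self hz0), map_one]
        · rw [if_pos (lt_of_le_of_ne h fun he => h' (huniq r hr he))]
          rw [show res ⟨r / z, hmem⟩ = 0 from (IsLocalRing.residue_eq_zero_iff _).mpr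
            ((V.valuation_lt_one_iff _).mpr (by
              show V.valuation (r / z) < 1
              rw [map_div₀, div_lt_one₀ (V.valuation.pos_iff.mpr hz0)]
              exact lt_of_le_of_ne h fun he => h' (huniq r hr he))), map_zero, sub_zero]
    · have hr0 : r ≠ 0 := fun h0 => h (by rw [h0, map_zero]; exact zero_le)
      have hmem : z / r ∈ V := (V.valuation_le_one_iff _).mp (by
        rw [map_div₀]; exact div_le_one_of_le₀ (not_le.mp h).le zero_le)
      refine ⟨r, C ⟨z / r, hmem⟩ * X - C 1, hr0, ?_, ?_⟩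
      · rw [sub_comp, X_comp, C_comp, Polynomial.map_sub, Polynomial.map_mul, map_X, map_C, map_C, mul_sub,
          ← mul_assoc, ← C_mul, ← C_mul, map_one, mul_one]
        congr 3
        show z = r * (z / r)
        field_simp
      · rw [if_neg fun h' => h h'.le, if_neg fun h' => h (by rw [h']), Polynomial.map_sub, Polynomial.map_mul,
          map_X, map_C, map_C, show res ⟨z / r, hmem⟩ = 0 from (IsLocalRing.residue_eq_zero_iff _).mpr
            ((V.valuation_lt_one_iff _).mpr (by
              show V.valuation (z / r) < 1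
              rw [map_div₀, div_lt_one₀ (V.valuation.pos_iff.mpr hr0)]
              exact not_le.mp h))]
        simp
  choose! e p he hfp hres using hfac
  let H : V[X] := ∏ r ∈ O, p r
  let s := (O.filter fun r => V.valuation r < V.valuation z).card
  obtain ⟨ε, hε, hH⟩ : ∃ ε : IsLocalRing.ResidueField V, ε ≠ 0 ∧ H.map res = C ε * (X ^ s * (X - C 1)) := by
    refine ⟨(-1) ^ ((O.filter fun r => ¬ V.valuation r < V.valuation z).erase z).card, pow_ne_zero _ (by simp), ?_⟩
    simp only [H, Polynomial.map_prod]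
    rw [← Finset.prod_filter_mul_prod_filter_not O (fun r => V.valuation r < V.valuation z)]
    rw [Finset.prod_congr rfl fun r hr => by
      rw [hres r (Finset.mem_filter.mp hr).1, if_pos (Finset.mem_filter.mp hr).2],
      Finset.prod_const, ← Finset.mul_prod_erase _ _ (Finset.mem_filter.mpr ⟨hzO, lt_irrefl _⟩ :
        z ∈ O.filter fun r => ¬ V.valuation r < V.valuation z), hres z hzO, if_neg (lt_irrefl _), if_pos rfl]
    rw [Finset.prod_congr rfl fun r hr => by
      rw [hres r (Finset.mem_filter.mp (Finset.mem_of_mem_erase hr)).1,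
        if_neg (Finset.mem_filter.mp (Finset.mem_of_mem_erase hr)).2, if_neg (Finset.ne_of_mem_erase hr)],
      Finset.prod_const, C_pow]
    ring
  have hcomp : F.comp (C z * X) = C (∏ r ∈ O, e r) * H.map ι := by
    simp only [F, H, prod_comp, Polynomial.map_prod, map_prod, ← Finset.prod_mul_distrib]
    exact Finset.prod_congr rfl hfp
  have hE : V.valuation (∏ r ∈ O, e r) ≠ 0 := by
    rw [Ne, V.valuation.zero_iff, Finset.prod_eq_zero_iff]
    push Not
    exact he
  have hco : ∀ i, (H.map res).coeff i ≠ 0 →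
      V.valuation (F.coeff i) * V.valuation z ^ i = V.valuation (∏ r ∈ O, e r) := fun i hi => by
    have h := congrArg (fun P => V.valuation (P.coeff i)) hcomp
    simp only [comp_C_mul_X_coeff, coeff_C_mul, coeff_map, map_mul, map_pow] at h
    rw [coeff_map] at hi
    rw [h, show V.valuation (ι (H.coeff i)) = 1 from (V.valuation_eq_one_iff _).mp
      ((IsLocalRing.residue_ne_zero_iff_isUnit _).mp hi), mul_one]
  have h1 := hco (s + 1) (by simp [hH, hε, mul_sub, coeff_X_pow, ← pow_succ])
  have h2 := hco s (by simp [hH, hε, mul_sub, coeff_X_pow, ← pow_succ])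
  obtain ⟨a1, ha1⟩ := hFK (s + 1)
  obtain ⟨a2, ha2⟩ := hFK s
  rw [← ha1] at h1
  rw [← ha2] at h2
  have hne1 : V.valuation (algebraMap K N a1) ≠ 0 := fun h0 => by
    rw [h0, zero_mul] at h1; exact hE h1.symm
  refine ⟨a2 / a1, ?_⟩
  rw [← hz, map_div₀, map_div₀, div_eq_iff hne1]
  have hzv : V.valuation z ^ s ≠ 0 := pow_ne_zero _ (by simpa using hz0)
  refine mul_right_cancel₀ hzv ?_
  rw [h2, ← h1, pow_succ]
  ac_rfl

omit [FiniteDimensional K N] in
/-- The interpolation sum over a stable finite set has fixed coefficients. -/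
theorem interp_fixed [DecidableEq N] {O : Finset N} (σ : N ≃ₐ[K] N) (hO : ∀ t ∈ O, σ t ∈ O) (w : N → N)
    (hw : ∀ t, w (σ t) = σ (w t)) (i : ℕ) :
    σ ((∑ t ∈ O, C (w t) * ∏ t' ∈ O.erase t, (X - C t')).coeff i) =
      (∑ t ∈ O, C (w t) * ∏ t' ∈ O.erase t, (X - C t')).coeff i := by
  have himg : O.image σ = O := Finset.eq_of_subset_of_card_le (fun _ h => by
    obtain ⟨t, ht, rfl⟩ := Finset.mem_image.mp h; exact hO t ht)
    (by rw [Finset.card_image_of_injective _ σ.injective])
  set P := ∑ t ∈ O, C (w t) * ∏ t' ∈ O.erase t, (X - C t') with hP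
  have : P.map σ.toRingEquiv.toRingHom = P := by
    conv_rhs => rw [hP, ← himg, Finset.sum_image σ.injective.injOn]
    rw [hP, Polynomial.map_sum]
    refine Finset.sum_congr rfl fun t _ => ?_
    rw [himg, Polynomial.map_mul, map_C, Polynomial.map_prod, hw]
    congr 1
    conv_rhs => rw [← himg, ← Finset.image_erase σ.injective, Finset.prod_image σ.injective.injOn]
    exact Finset.prod_congr rfl fun _ _ => by rw [Polynomial.map_sub, map_X, map_C]; rfl
  conv_rhs => rw [← this]
  rw [coeff_map]; rfl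

omit [FiniteDimensional K N] in
theorem interp_coeff_le [DecidableEq N] {O : Finset N} (hO : ∀ t ∈ O, V.valuation t ≤ 1) (w : N → N) {γ}
    (hw : ∀ t ∈ O, V.valuation (w t) ≤ γ) (i : ℕ) :
    V.valuation ((∑ t ∈ O, C (w t) * ∏ t' ∈ O.erase t, (X - C t')).coeff i) ≤ γ := by
  rw [finset_sum_coeff]
  refine V.valuation.map_sum_le fun t ht => ?_
  rw [coeff_C_mul, map_mul]
  refine (mul_le_of_le_one_right' ?_).trans (hw t ht)
  have : ∏ t' ∈ O.erase t, (X - C t') ∈ Polynomial.lifts V.subtype := Subsemiring.prod_mem _ fun t' ht' =>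
    ⟨X - C ⟨t', (V.valuation_le_one_iff _).mp (hO t' (Finset.mem_of_mem_erase ht'))⟩, by simp⟩
  obtain ⟨Q, hQ⟩ := this
  rw [← hQ, coe_mapRingHom, coeff_map]
  exact V.valuation_le_one _

omit [FiniteDimensional K N] in
theorem interp_eval [DecidableEq N] {O : Finset N} (w : N → N) {θ : N} (hθ : θ ∈ O) :
    (∑ t ∈ O, C (w t) * ∏ t' ∈ O.erase t, (X - C t')).eval θ = w θ * ∏ t' ∈ O.erase θ, (θ - t') := by
  rw [eval_finset_sum, Finset.sum_eq_single θ]
  · simp [eval_prod]
  · intro t _ htθ
    rw [eval_mul, eval_prod, Finset.prod_eq_zero (Finset.mem_erase.mpr ⟨Ne.symm htθ, hθ⟩) (by simp), mul_zero]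
  · exact fun h => absurd hθ h

variable [IsGalois K N] {θ : N} {f : K[X]}

/-- Value group: elements of `K(θ)` have the valuation of elements of `K`. -/
theorem value_group (hθ : V.valuation θ ≤ 1) (hm : f.Monic)
    (hf : ∀ i, V.valuation (algebraMap K N (f.coeff i)) ≤ 1) (h0 : aeval θ f = 0)
    (hd : V.valuation (aeval θ f.derivative) = 1) (g : K[X]) (hg : aeval θ g ≠ 0) :
    ∃ a : K, V.valuation (algebraMap K N a) = V.valuation (aeval θ g) := by
  classical
  let O : Finset N := (Finset.univ.filter fun σ : N ≃ₐ[K] N => σ ∈ dec (K := K) V).image fun σ => σ θ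
  have hθO : θ ∈ O := Finset.mem_image.mpr ⟨1, Finset.mem_filter.mpr ⟨Finset.mem_univ _, one_mem _⟩, rfl⟩
  have hO : ∀ t ∈ O, ∃ σ ∈ dec (K := K) V, σ θ = t := fun t ht => by
    obtain ⟨σ, hσ, rfl⟩ := Finset.mem_image.mp ht
    exact ⟨σ, (Finset.mem_filter.mp hσ).2, rfl⟩
  have hO1 : ∀ t ∈ O, V.valuation t ≤ 1 := fun t ht => by
    obtain ⟨σ, hσ, rfl⟩ := hO t ht
    rwa [dec_value hσ]
  have hΔ : V.valuation (∏ t' ∈ O.erase θ, (θ - t')) = 1 :=
    diff_eq_one (f := f.map (algebraMap K N)) (hm.map _) (fun i => by rw [coeff_map]; exact hf i) O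
      (fun t ht => ⟨by
        obtain ⟨σ, -, rfl⟩ := hO t ht
        rw [IsRoot, eval_map_algebraMap, aeval_conj, h0, map_zero], hO1 t ht⟩) hθO
      (by rw [derivative_map, eval_map_algebraMap]; exact hd)
  let w : N → N := fun t => aeval t g
  set P := ∑ t ∈ O, C (w t) * ∏ t' ∈ O.erase t, (X - C t')
  have hP : ∀ i, V.valuation (P.coeff i) ≤ V.valuation (aeval θ g) := interp_coeff_le hO1 w fun t ht => by
    obtain ⟨σ, hσ, rfl⟩ := hO t ht
    show V.valuation (aeval (σ θ) g) ≤ _
    rw [aeval_conj, dec_value hσ]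
  have hev : V.valuation (P.eval θ) = V.valuation (aeval θ g) := by
    rw [interp_eval w hθO, map_mul, hΔ, mul_one]
  obtain ⟨i, hi⟩ : ∃ i, V.valuation (P.coeff i) = V.valuation (aeval θ g) := by
    by_contra! hcon
    have hlt : V.valuation (P.eval θ) < V.valuation (aeval θ g) := by
      rw [Polynomial.eval_eq_sum_range]
      refine V.valuation.map_sum_lt (by simpa using hg) fun i _ => ?_
      rw [map_mul, map_pow]
      exact (mul_le_of_le_one_right' (pow_le_one₀ zero_le hθ)).trans_lt (lt_of_le_of_ne (hP i) (hcon i))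
    exact hlt.ne hev
  have hfix : ∀ τ ∈ dec (K := K) V, τ (P.coeff i) = P.coeff i := fun τ hτ =>
    interp_fixed τ (fun t ht => by
      obtain ⟨σ, hσ, rfl⟩ := hO t ht
      exact Finset.mem_image.mpr ⟨τ * σ, Finset.mem_filter.mpr ⟨Finset.mem_univ _, mul_mem hτ hσ⟩, rfl⟩)
      w (fun t => aeval_conj τ t g) i
  have hne : P.coeff i ≠ 0 := fun h => by
    rw [h, map_zero] at hi
    exact hg (V.valuation.zero_iff.mp hi.symm)
  obtain ⟨a, ha⟩ := value_fixed hne hfix
  exact ⟨a, ha.trans hi⟩

/-- The valuation ring of `K(θ)` consists of fractions of integral polynomials in `θ`. -/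
theorem exists_fraction (hθ : V.valuation θ ≤ 1) (hm : f.Monic)
    (hf : ∀ i, V.valuation (algebraMap K N (f.coeff i)) ≤ 1) (h0 : aeval θ f = 0)
    (hd : V.valuation (aeval θ f.derivative) = 1) (g : K[X]) (hg : V.valuation (aeval θ g) ≤ 1) :
    ∃ P Q : K[X], (∀ i, V.valuation (algebraMap K N (P.coeff i)) ≤ 1) ∧
      (∀ i, V.valuation (algebraMap K N (Q.coeff i)) ≤ 1) ∧
      V.valuation (aeval θ Q) = 1 ∧ aeval θ g * aeval θ Q = aeval θ P := by
  classical
  obtain ⟨P₀, Q₀, hP₀, hQ₀, hQ1, he⟩ := exists_div (K := K) hg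
  let O : Finset N := Finset.univ.image fun σ : N ≃ₐ[K] N => σ θ
  have hθO : θ ∈ O := Finset.mem_image.mpr ⟨1, Finset.mem_univ _, rfl⟩
  have hint : ∀ t ∈ O, V.valuation t ≤ 1 := fun t ht => by
    obtain ⟨σ, -, rfl⟩ := Finset.mem_image.mp ht
    by_contra hgt
    push Not at hgt
    have hz : aeval (σ θ) f = 0 := by rw [aeval_conj, h0, map_zero]
    rw [← eval_map_algebraMap, Polynomial.eval_eq_sum_range, Finset.sum_range_succ,
      (hm.map (algebraMap K N)).coeff_natDegree, one_mul, add_eq_zero_iff_eq_neg'] at hz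
    have h' := congrArg V.valuation hz
    rw [map_pow, V.valuation.map_neg] at h'
    refine absurd h' (ne_of_gt ?_)
    refine V.valuation.map_sum_lt (pow_ne_zero _ (lt_trans zero_lt_one hgt).ne') fun i hi => ?_
    rw [map_mul, map_pow, coeff_map]
    exact (mul_le_of_le_one_left' (hf i)).trans_lt (pow_lt_pow_right₀ hgt (Finset.mem_range.mp hi))
  have hΔ : V.valuation (∏ t' ∈ O.erase θ, (θ - t')) = 1 :=
    diff_eq_one (f := f.map (algebraMap K N)) (hm.map _) (fun i => by rw [coeff_map]; exact hf i) O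
      (fun t ht => ⟨by
        obtain ⟨σ, -, rfl⟩ := Finset.mem_image.mp ht
        rw [IsRoot, eval_map_algebraMap, aeval_conj, h0, map_zero], hint t ht⟩) hθO
      (by rw [derivative_map, eval_map_algebraMap]; exact hd)
  have key : ∀ h : K[X], Intl (K := K) V (aeval θ h) →
      ∃ R : K[X], (∀ i, V.valuation (algebraMap K N (R.coeff i)) ≤ 1) ∧
        aeval θ R = aeval θ h * ∏ t' ∈ O.erase θ, (θ - t') := by
    intro h hh
    let w : N → N := fun t => aeval t h
    set P := ∑ t ∈ O, C (w t) * ∏ t' ∈ O.erase t, (X - C t')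
    have hP : ∀ i, V.valuation (P.coeff i) ≤ 1 := interp_coeff_le hint w fun t ht => by
      obtain ⟨σ, -, rfl⟩ := Finset.mem_image.mp ht
      show V.valuation (aeval (σ θ) h) ≤ 1
      rw [aeval_conj]
      exact hh σ
    have hfix : ∀ i, ∃ a : K, algebraMap K N a = P.coeff i := fun i =>
      IntermediateField.mem_bot.mp ((IsGalois.mem_bot_iff_fixed _).mpr fun τ =>
        interp_fixed τ (fun t ht => by
          obtain ⟨σ, -, rfl⟩ := Finset.mem_image.mp ht
          exact Finset.mem_image.mpr ⟨τ * σ, Finset.mem_univ _, rfl⟩) w (fun t => aeval_conj τ t h) i)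
    obtain ⟨R, hR⟩ : P ∈ Polynomial.lifts (algebraMap K N) := (lifts_iff_coeff_lifts P).mpr fun i => hfix i
    rw [coe_mapRingHom] at hR
    refine ⟨R, fun i => ?_, ?_⟩
    · rw [← coeff_map, hR]; exact hP i
    · rw [← eval_map_algebraMap, hR, interp_eval w hθO]
  obtain ⟨P, hP, hPe⟩ := key (P₀.comp g) (by rwa [aeval_comp])
  obtain ⟨Q, hQ, hQe⟩ := key (Q₀.comp g) (by rwa [aeval_comp])
  refine ⟨P, Q, hP, hQ, ?_, ?_⟩
  · rw [hQe, map_mul, hΔ, mul_one, aeval_comp, hQ1]
  · rw [hPe, hQe, ← mul_assoc, aeval_comp, aeval_comp, he]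

end Groth.Agent.ValEtale7
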